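import Mathlib
import Cfsg.Prelude.Def_Characters
import Cfsg.Prelude.Def_ParabolicCharacters
import Cfsg.Agent.Lib.PSLTwo.Sylow
import Cfsg.Agent.Lib.Induced.Basic

/-!
The Borel subgroup of SL₂(q), coset representatives, and the values of the functions induced from
its linear characters.
-/

set_option autoImplicit false
set_option linter.unusedSectionVars false

namespace Cfsg.Agent.Lib.SL2Tori.Borel

open Cfsg.Agent.Lib.PSLTwo.Sylow Cfsg.Agent.Lib.Induced.Basic

variable {F : Type*} [Field F]

local notation "SL" => Matrix.SpecialLinearGroup (Fin 2) F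

/-- The upper triangular subgroup of SL₂. -/
def borel : Subgroup (Matrix.SpecialLinearGroup (Fin 2) F) :=
  (Cfsg.upperTriangularGL 2 F).comap Matrix.SpecialLinearGroup.toGL

theorem mem_borel {g : SL} : g ∈ (borel : Subgroup SL) ↔ g.1 1 0 = 0 := by
  rw [borel, Subgroup.mem_comap]
  change Matrix.BlockTriangular (g.1) id ↔ _
  constructor
  · intro h
    exact h (show (0 : Fin 2) < 1 by decide)
  · intro h i j hij
    fin_cases i <;> fin_cases j <;> first | exact h | exact absurd hij (by decide)

/-- An element of the Borel subgroup from its parameters. -/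
def mkB (a : Fˣ) (b : F) : (borel : Subgroup (Matrix.SpecialLinearGroup (Fin 2) F)) :=
  ⟨mk2 (a : F) b 0 ((a⁻¹ : Fˣ) : F) (by simp), mem_borel.mpr (by simp)⟩

theorem det_borel {g : SL} (hg : g ∈ (borel : Subgroup SL)) : g.1 0 0 * g.1 1 1 = 1 := by
  have := det_eq g
  rw [mem_borel.mp hg] at this
  linear_combination this

/-- Parameters of the Borel subgroup. -/
def borelEquiv : Fˣ × F ≃ (borel : Subgroup (Matrix.SpecialLinearGroup (Fin 2) F)) where
  toFun p := mkB p.1 p.2
  invFun g := (⟨g.1.1 0 0, g.1.1 1 1, det_borel g.2,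
    by rw [mul_comm]; exact det_borel g.2⟩, g.1.1 0 1)
  left_inv p := by
    refine Prod.ext (Units.ext ?_) ?_ <;> simp [mkB]
  right_inv g := by
    refine Subtype.ext (slExt ?_ ?_ ?_ ?_)
    · simp [mkB]
    · simp [mkB]
    · simp [mkB, mem_borel.mp g.2]
    · simp [mkB]

theorem borelEquiv_apply (p : Fˣ × F) : borelEquiv p = mkB p.1 p.2 := rfl

section finite

variable [Fintype F]

theorem card_borel : Nat.card (borel : Subgroup SL) = (Fintype.card F - 1) * Fintype.card F := by
  classical
  rw [← Nat.card_congr borelEquiv, Nat.card_prod, Nat.card_units, Nat.card_eq_fintype_card]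

end finite

/-- Coset representatives of the Borel subgroup. -/
def rep : Option F → Matrix.SpecialLinearGroup (Fin 2) F
  | none => mk2 0 1 (-1) 0 (by ring)
  | some c => mk2 1 0 c 1 (by ring)

theorem rep_inv_some (c : F) : (rep (some c))⁻¹ = mk2 1 0 (-c) 1 (by ring) :=
  inv_eq_of_mul_eq_one_right (by apply slExt <;> simp [rep, mul_apply'])

theorem rep_inv_none : (rep (none : Option F))⁻¹ = mk2 0 (-1) 1 0 (by ring) :=
  inv_eq_of_mul_eq_one_right (by apply slExt <;> simp [rep, mul_apply'])

theorem rep_bijective :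
    Function.Bijective fun p : Option F × (borel : Subgroup SL) => rep p.1 * p.2.1 := by
  constructor
  · rintro ⟨o, b⟩ ⟨o', b'⟩ h
    simp only at h
    have h1 : (rep o)⁻¹ * rep o' ∈ (borel : Subgroup SL) := by
      have : (rep o)⁻¹ * rep o' = b.1 * b'.1⁻¹ := by
        rw [eq_mul_inv_iff_mul_eq, mul_assoc, ← h, inv_mul_cancel_left]
      rw [this]
      exact mul_mem b.2 (inv_mem b'.2)
    rw [mem_borel] at h1
    have ho : o = o' := by
      rcases o with _ | c <;> rcases o' with _ | d <;>
        simp [rep_inv_some, rep_inv_none, mul_apply'] at h1 ⊢ <;> simp [rep] at h1 ⊢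
      linear_combination -h1
    subst ho
    simp only [mul_right_inj] at h
    rw [Subtype.ext h]
  · intro x
    by_cases hx : x.1 0 0 = 0
    · refine ⟨(none, ⟨(rep none)⁻¹ * x, ?_⟩), mul_inv_cancel_left _ _⟩
      rw [mem_borel, rep_inv_none]
      simp [mul_apply', hx]
    · refine ⟨(some (x.1 1 0 / x.1 0 0), ⟨(rep (some (x.1 1 0 / x.1 0 0)))⁻¹ * x, ?_⟩),
        mul_inv_cancel_left _ _⟩
      rw [mem_borel, rep_inv_some]
      simp [mul_apply', div_mul_cancel₀ _ hx]

section induced

variable [Fintype F] [DecidableEq F]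

/-- The linear function `b ↦ α(b₁₁)` on the Borel subgroup. -/
noncomputable def lin (α : MulChar F ℂ) (b : (borel : Subgroup (Matrix.SpecialLinearGroup (Fin 2) F))) : ℂ :=
  α (((b : Matrix.SpecialLinearGroup (Fin 2) F) : Matrix (Fin 2) (Fin 2) F) 0 0)

theorem mul_00 (a b : (borel : Subgroup SL)) :
    (a * b).1.1 0 0 = a.1.1 0 0 * b.1.1 0 0 := by
  rw [Subgroup.coe_mul, mul_apply', mem_borel.mp b.2]
  ring

theorem lin_mul (α : MulChar F ℂ) (a b : (borel : Subgroup SL)) :
    lin α (a * b) = lin α a * lin α b := by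
  rw [lin, mul_00, map_mul]
  rfl

theorem lin_isClassFunction (α : MulChar F ℂ) : Cfsg.IsClassFunction (borel : Subgroup SL) (lin α) := by
  intro g h
  rw [lin_mul, lin_mul, mul_comm (lin α h), mul_assoc, ← lin_mul, mul_inv_cancel]
  simp [lin]

theorem ext_lin (α : MulChar F ℂ) (g : SL) :
    Cfsg.extendByZero borel (lin α) g = if g.1 1 0 = 0 then α (g.1 0 0) else 0 := by
  split_ifs with h
  · rw [extendByZero_of_mem _ _ (mem_borel.mpr h)]
    rfl
  · rw [extendByZero_of_not_mem _ _ (fun hg => h (mem_borel.mp hg))]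

/-- The induced function in coordinates. -/
theorem ind_eq (α : MulChar F ℂ) (g : SL) :
    Cfsg.indFun borel (lin α) g =
      (if g.1 0 1 = 0 then α (g.1 1 1) else 0) +
        ∑ c : F, if g.1 1 0 + c * (g.1 1 1 - g.1 0 0) - c ^ 2 * g.1 0 1 = 0 then
          α (g.1 0 0 + g.1 0 1 * c) else 0 := by
  classical
  simp only [Cfsg.indFun]
  rw [← (rep_bijective (F := F)).sum_comp, Fintype.sum_prod_type]
  have key : ∀ (o : Option F) (b : (borel : Subgroup SL)),
      Cfsg.extendByZero borel (lin α) ((rep o * b.1)⁻¹ * g * (rep o * b.1)) =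
        Cfsg.extendByZero borel (lin α) ((rep o)⁻¹ * g * rep o) := by
    intro o b
    rw [show (rep o * b.1)⁻¹ * g * (rep o * b.1) = b.1⁻¹ * ((rep o)⁻¹ * g * rep o) * (b.1⁻¹)⁻¹ by group]
    exact extendByZero_conj_of_mem borel (lin_isClassFunction α) (inv_mem b.2) _
  simp only [key, Finset.sum_const, Finset.card_univ, nsmul_eq_mul]
  rw [← Finset.mul_sum, ← mul_assoc, Fintype.card_eq_nat_card,
    inv_mul_cancel₀ (subgroup_card_ne_zero _), one_mul, Fintype.sum_option]
  congr 1
  · rw [ext_lin, rep_inv_none]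
    simp [rep, mul_apply']
  · refine Finset.sum_congr rfl fun c _ => ?_
    rw [ext_lin]
    have e0 : ((rep (some c))⁻¹ * g * rep (some c)).1 0 0 = g.1 0 0 + g.1 0 1 * c := by
      rw [rep_inv_some]; simp [rep, mul_apply']
    have e1 : ((rep (some c))⁻¹ * g * rep (some c)).1 1 0 =
        g.1 1 0 + c * (g.1 1 1 - g.1 0 0) - c ^ 2 * g.1 0 1 := by
      rw [rep_inv_some]; simp [rep, mul_apply']
      ring
    rw [e0, e1]

end induced

end Cfsg.Agent.Lib.SL2Tori.Borel
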