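import Mathlib
import Cfsg.Agent.Lib.PSLTwo.Sylow
import Cfsg.Agent.Lib.Linear.SL2

/-!
Maximal tori of SL₂(q), q odd: centralisers of regular semisimple elements, their orders,
normalisers, and class counting for groups with a commutative subgroup inverted from outside.
-/

set_option autoImplicit false
set_option linter.unusedSectionVars false

namespace Cfsg.Agent.Lib.SL2Tori

open Cfsg.Agent.Lib.PSLTwo.Sylow

section ClassCount

open scoped Classical in
/-- A group with a commutative subgroup of index two, inverted by the outside, with exactly two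
square roots of one in the subgroup, has `#T / 2 + 3` classes. -/
theorem card_conjClasses_inverted {G : Type*} [Group G] [Finite G] (T : Subgroup G)
    (hidx : Nat.card G = 2 * Nat.card T) (hcomm : ∀ a ∈ T, ∀ b ∈ T, a * b = b * a)
    (hinv : ∀ w, w ∉ T → ∀ a ∈ T, w * a * w⁻¹ = a⁻¹)
    (hroots : Nat.card {a : T // a * a = 1} = 2) :
    2 * Nat.card (ConjClasses G) = Nat.card T + 6 := by
  have := Fintype.ofFinite G
  have hmul : ∀ x y, x ∉ T → y ∉ T → x * y⁻¹ ∈ T := by
    have hi : T.index = 2 := by
      have h1 := T.card_mul_index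
      have h2 : 0 < Nat.card T := Nat.card_pos
      rw [hidx, mul_comm 2] at h1
      exact Nat.eq_of_mul_eq_mul_left h2 h1
    intro x y hx hy
    rw [Subgroup.mul_mem_iff_of_index_two hi]
    simp [hx, inv_mem_iff, hy]
  let n : ℕ := Nat.card T
  have hTc : (Finset.univ.filter fun x : G => x ∈ T).card = n := by
    simp only [n, Nat.card_eq_fintype_card, Fintype.card_subtype]
  have hOc : (Finset.univ.filter fun x : G => x ∉ T).card = n := by
    have h := Finset.card_filter_add_card_filter_not (s := (Finset.univ : Finset G)) (fun x => x ∈ T)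
    rw [hTc, Finset.card_univ, ← Nat.card_eq_fintype_card, hidx] at h
    omega
  let c : G → ℕ := fun x => (Finset.univ.filter fun y : G => x * y = y * x).card
  have hc1 : ∀ x ∈ T, x * x = 1 → c x = 2 * n := by
    intro x hx hxx
    have : (Finset.univ.filter fun y : G => x * y = y * x) = Finset.univ := by
      rw [Finset.filter_eq_self]
      intro y _
      by_cases hy : y ∈ T
      · exact hcomm x hx y hy
      · have h1 := hinv y hy x hx
        rw [inv_eq_of_mul_eq_one_right hxx, mul_inv_eq_iff_eq_mul] at h1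
        exact h1.symm
    simp only [c, this, Finset.card_univ, ← Nat.card_eq_fintype_card, hidx, n]
  have hc2 : ∀ x ∈ T, x * x ≠ 1 → c x = n := by
    intro x hx hxx
    rw [← hTc]
    refine congrArg Finset.card (Finset.filter_congr fun y _ => ⟨fun h => ?_, fun hy => hcomm x hx y hy⟩)
    by_contra hy
    have h1 := hinv y hy x hx
    rw [← h, mul_inv_cancel_right] at h1
    apply hxx
    nth_rewrite 2 [h1]
    exact mul_inv_cancel x
  let R := Finset.univ.filter fun a : G => a ∈ T ∧ a * a = 1
  have hR : R.card = 2 := by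
    rw [← hroots, Nat.card_eq_fintype_card, Fintype.card_subtype]
    refine Finset.card_bij' (fun a ha => (⟨a, (Finset.mem_filter.mp ha).2.1⟩ : T)) (fun a _ => (a : G))
      ?_ ?_ ?_ ?_
    · intro a ha
      simp only [Finset.mem_filter, Finset.mem_univ, true_and]
      exact Subtype.ext (Finset.mem_filter.mp ha).2.2
    · intro a ha
      simp only [R, Finset.mem_filter, Finset.mem_univ, true_and] at ha ⊢
      exact ⟨a.2, by simpa using congrArg Subtype.val ha⟩
    · intros; rfl
    · intros; rfl
  have hc3 : ∀ x, x ∉ T → c x = 4 := by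
    intro x hx
    have hset : (Finset.univ.filter fun y : G => x * y = y * x) = R ∪ R.image (fun a => a * x) := by
      ext y
      simp only [R, Finset.mem_filter, Finset.mem_univ, true_and, Finset.mem_union, Finset.mem_image]
      constructor
      · intro h
        have key : ∀ z ∈ T, x * z = z * x → z * z = 1 := by
          intro z hz hxz
          have h1 := hinv x hx z hz
          rw [hxz, mul_inv_cancel_right] at h1
          nth_rewrite 2 [h1]
          exact mul_inv_cancel z
        by_cases hy : y ∈ T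
        · exact Or.inl ⟨hy, key y hy h⟩
        · refine Or.inr ⟨y * x⁻¹, ⟨hmul y x hy hx, key _ (hmul y x hy hx) ?_⟩, by group⟩
          rw [← mul_assoc, h, mul_inv_cancel_right, inv_mul_cancel_right]
      · rintro (⟨hy, hyy⟩ | ⟨a, ⟨ha, haa⟩, rfl⟩)
        · have h1 := hinv x hx y hy
          rw [inv_eq_of_mul_eq_one_right hyy, mul_inv_eq_iff_eq_mul] at h1
          exact h1
        · have h1 := hinv x hx a ha
          rw [inv_eq_of_mul_eq_one_right haa, mul_inv_eq_iff_eq_mul] at h1
          rw [← mul_assoc, h1]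
    have hdisj : Disjoint R (R.image fun a => a * x) := by
      rw [Finset.disjoint_left]
      intro a ha ha'
      simp only [R, Finset.mem_filter, Finset.mem_univ, true_and, Finset.mem_image] at ha ha'
      obtain ⟨b, ⟨hb, -⟩, rfl⟩ := ha'
      exact hx ((Subgroup.mul_mem_cancel_left T hb).mp ha.1)
    simp only [c]
    rw [hset, Finset.card_union_of_disjoint hdisj,
      Finset.card_image_of_injective _ (mul_left_injective x), hR]
  have hS1 : ∀ x ∈ R, c x = 2 * n := fun x hx =>
    hc1 x (Finset.mem_filter.mp hx).2.1 (Finset.mem_filter.mp hx).2.2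
  have hS2c : (Finset.univ.filter fun x : G => x ∈ T ∧ ¬ x * x = 1).card + 2 = n := by
    rw [← hR, ← hTc, add_comm]
    have h := Finset.card_filter_add_card_filter_not (s := Finset.univ.filter fun x : G => x ∈ T)
      (fun x => x * x = 1)
    simpa [Finset.filter_filter, R] using h
  have htot : ∑ x, c x = 4 * n + (n - 2) * n + n * 4 := by
    rw [← Finset.sum_filter_add_sum_filter_not _ (fun x => x ∈ T),
      ← Finset.sum_filter_add_sum_filter_not (Finset.univ.filter fun x : G => x ∈ T) (fun x => x * x = 1),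
      Finset.filter_filter, Finset.filter_filter, Finset.sum_const_nat hS1, hR,
      Finset.sum_const_nat (fun x hx => hc2 x (Finset.mem_filter.mp hx).2.1 (Finset.mem_filter.mp hx).2.2),
      Finset.sum_const_nat (fun x hx => hc3 x (Finset.mem_filter.mp hx).2), hOc,
      show (Finset.univ.filter fun x : G => x ∈ T ∧ ¬ x * x = 1).card = n - 2 by omega]
    ring
  have hpairs : Nat.card {p : G × G // Commute p.1 p.2} = ∑ x, c x := by
    rw [Nat.card_eq_fintype_card, Fintype.card_subtype, Finset.card_filter, Fintype.sum_prod_type]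
    simp only [c, Finset.card_filter, Commute, SemiconjBy]
    congr!
  rw [card_comm_eq_card_conjClasses_mul_card, htot, hidx] at hpairs
  obtain ⟨k, hk⟩ : ∃ k, n = k + 2 := ⟨n - 2, by omega⟩
  change 2 * _ = n + 6
  change _ * (2 * n) = _ at hpairs
  rw [hk] at hpairs ⊢
  simp only [Nat.add_sub_cancel] at hpairs
  have : (2 * Nat.card (ConjClasses G)) * (k + 2) = (k + 2 + 6) * (k + 2) := by linarith
  exact Nat.eq_of_mul_eq_mul_right (by omega) this

end ClassCount

section Tori

variable {F : Type*} [Field F]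

local notation "SL" => Matrix.SpecialLinearGroup (Fin 2) F
local notation "M2" => Matrix (Fin 2) (Fin 2) F

/-- Regular semisimple: the trace is not `±2`. -/
def Regular (x : Matrix.SpecialLinearGroup (Fin 2) F) : Prop := slTr x ^ 2 ≠ 4

/-- The torus of a regular element: its centraliser. -/
def torus (x : Matrix.SpecialLinearGroup (Fin 2) F) : Subgroup (Matrix.SpecialLinearGroup (Fin 2) F) :=
  Subgroup.centralizer {x}

theorem mem_torus {x g : SL} : g ∈ torus x ↔ g * x = x * g :=
  Subgroup.mem_centralizer_singleton_iff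

theorem self_mem_torus (x : SL) : x ∈ torus x := mem_torus.mpr rfl

theorem negOne_mem_torus (x : SL) : (negOne : SL) ∈ torus x := mem_torus.mpr (negOne_central x)

theorem regular_iff_disc (g : SL) :
    Regular g ↔ (g.1 0 0 - g.1 1 1) ^ 2 + 4 * (g.1 0 1 * g.1 1 0) ≠ 0 := by
  have h := det_eq g
  rw [Regular, slTr]
  constructor
  · exact fun h1 h2 => h1 (by linear_combination h2 + 4 * h)
  · exact fun h1 h2 => h1 (by linear_combination h2 - 4 * h)

theorem Regular.nonScalar {x : SL} (hx : Regular x) : NonScalar x := by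
  by_contra h
  rcases scalar_cases h with rfl | rfl
  · exact hx (by simp [slTr]; norm_num)
  · exact hx (by simp [slTr]; norm_num)

theorem Regular.inv {x : SL} (hx : Regular x) : Regular x⁻¹ := by rwa [Regular, slTr_inv]

theorem Regular.conj {x : SL} (hx : Regular x) (g : SL) : Regular (g * x * g⁻¹) := by
  rwa [Regular, slTr_conj]

/-- Non-scalar elements of a torus are regular. -/
theorem regular_of_mem_torus {x y : SL} (hx : Regular x) (hy : y ∈ torus x) (hy' : NonScalar y) :
    Regular y := by
  obtain ⟨k, k1, k2, k3⟩ := commute_param hx.nonScalar (mem_torus.mp hy)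
  have hk : k ≠ 0 := by
    rintro rfl
    rcases hy' with h | h | h
    · exact h (by simpa using k1)
    · exact h (by simpa using k2)
    · exact h (sub_eq_zero.mp (by simpa using k3))
  rw [regular_iff_disc] at hx ⊢
  rw [k1, k2, k3]
  intro h
  have h' : k ^ 2 * ((x.1 0 0 - x.1 1 1) ^ 2 + 4 * (x.1 0 1 * x.1 1 0)) = 0 := by
    linear_combination h
  exact hx ((mul_eq_zero.mp h').resolve_left (pow_ne_zero _ hk))

theorem torus_comm {x : SL} (hx : Regular x) {a b : SL} (ha : a ∈ torus x) (hb : b ∈ torus x) :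
    a * b = b * a :=
  commute_of_commute hx.nonScalar (mem_torus.mp ha) (mem_torus.mp hb)

theorem torus_eq_of_mem {x y : SL} (hx : Regular x) (hy : y ∈ torus x) (hy' : NonScalar y) :
    torus y = torus x := by
  ext g
  rw [mem_torus, mem_torus]
  constructor
  · intro h
    exact commute_of_commute hy' h (mem_torus.mp hy).symm
  · intro h
    exact commute_of_commute hx.nonScalar h (mem_torus.mp hy)

theorem torus_conj (g x : SL) : torus (g * x * g⁻¹) = (torus x).map (MulAut.conj g).toMonoidHom := by
  ext h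
  rw [Subgroup.mem_map_equiv, mem_torus, mem_torus, MulAut.conj_symm_apply]
  constructor
  · intro e
    calc g⁻¹ * h * g * x = g⁻¹ * (h * (g * x * g⁻¹)) * g := by group
      _ = _ := by rw [e]; group
  · intro e
    calc h * (g * x * g⁻¹) = g * (g⁻¹ * h * g * x) * g⁻¹ := by group
      _ = _ := by rw [e]; group

theorem card_torus_conj (g x : SL) : Nat.card (torus (g * x * g⁻¹)) = Nat.card (torus x) := by
  rw [torus_conj]
  exact Nat.card_congr ((torus x).equivMapOfInjective _ (MulAut.conj g).injective).toEquiv.symm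

theorem mul_self_eq_one_cases {x y : SL} (h2 : (2 : F) ≠ 0) (hy : y ∈ torus x) :
    y * y = 1 ↔ y = 1 ∨ y = negOne :=
  ⟨sq_eq_one h2, fun h => by rcases h with rfl | rfl <;> simp [negOne_sq]⟩

theorem nonScalar_of_sq_ne_one {y : SL} (h : y * y ≠ 1) : NonScalar y := by
  by_contra hs
  rcases scalar_cases hs with rfl | rfl
  · exact h (one_mul 1)
  · exact h negOne_sq

/-- Elements normalising a torus centralise or invert it. -/
theorem conj_eq_inv_of_mem_normalizer {x : SL} (h2 : (2 : F) ≠ 0) (hx : Regular x) {w : SL}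
    (hw : w ∈ Subgroup.normalizer (torus x : Set SL)) (hwT : w ∉ torus x) {a : SL}
    (ha : a ∈ torus x) : w * a * w⁻¹ = a⁻¹ := by
  by_cases has : NonScalar a
  · have hra := regular_of_mem_torus hx ha has
    have hmem : w * a * w⁻¹ ∈ torus x := (Subgroup.mem_normalizer_iff.mp hw a).mp ha
    rcases eq_or_eq_inv h2 has hra (torus_comm hx hmem ha) (slTr_conj a w) with h | h
    · exfalso
      apply hwT
      rw [← torus_eq_of_mem hx ha has, mem_torus]
      exact mul_inv_eq_iff_eq_mul.mp h
    · exact h
  · rcases scalar_cases has with rfl | rfl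
    · simp
    · rw [← negOne_central, mul_inv_cancel_right]
      exact (inv_eq_of_mul_eq_one_right negOne_sq).symm

theorem sq_eq_negOne_of_not_mem {x : SL} (h2 : (2 : F) ≠ 0) (hx : Regular x) {w : SL}
    (hw : w ∈ Subgroup.normalizer (torus x : Set SL)) (hwT : w ∉ torus x) : w * w = negOne := by
  have hww : w * w ∈ torus x := by
    rw [mem_torus]
    have h1 := conj_eq_inv_of_mem_normalizer h2 hx hw hwT (self_mem_torus x)
    have h3 : w * x⁻¹ * w⁻¹ = x := by
      have := congrArg (fun z => z⁻¹) h1
      simpa [mul_inv_rev, mul_assoc] using this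
    calc w * w * x = w * (w * x * w⁻¹) * w⁻¹ * (w * w) := by group
      _ = _ := by rw [h1, h3]
  have h1 := conj_eq_inv_of_mem_normalizer h2 hx hw hwT hww
  rw [show w * (w * w) * w⁻¹ = w * w by group] at h1
  have h4 : (w * w) * (w * w) = 1 := by nth_rewrite 2 [h1]; exact mul_inv_cancel _
  rcases sq_eq_one h2 h4 with h | h
  · rcases sq_eq_one h2 h with rfl | rfl
    · exact absurd (one_mem _) hwT
    · exact absurd (negOne_mem_torus x) hwT
  · exact h

variable [Fintype F]

theorem exists_inverting {x : SL} (hodd : Odd (Fintype.card F)) (hx : Regular x) :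
    ∃ w ∈ Subgroup.normalizer (torus x : Set SL), w ∉ torus x := by
  have h2 := Cfsg.Agent.Lib.Linear.two_ne_zero_of_odd_card hodd
  obtain ⟨w, hw⟩ := exists_conj (Nat.odd_iff.mp hodd) h2 hx (slTr_inv x)
  refine ⟨w, ?_, fun hwT => ?_⟩
  · refine Cfsg.Agent.Lib.PSLTwo.Sylow.mem_normalizer_of_conj_mem fun a ha => ?_
    rw [← torus_eq_of_mem hx (inv_mem (self_mem_torus x)) hx.inv.nonScalar, ← hw, torus_conj]
    exact ⟨a, ha, rfl⟩
  · rw [mem_torus.mp hwT, mul_inv_cancel_right] at hw
    have h1 : x * x = 1 := by nth_rewrite 2 [hw]; exact mul_inv_cancel x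
    rcases sq_eq_one h2 h1 with rfl | rfl
    · exact hx (by simp [slTr]; norm_num)
    · exact hx (by simp [slTr]; norm_num)

theorem card_normalizer_torus {x : SL} (hodd : Odd (Fintype.card F)) (hx : Regular x) :
    Nat.card (Subgroup.normalizer (torus x : Set SL)) = 2 * Nat.card (torus x) := by
  classical
  have h2 := Cfsg.Agent.Lib.Linear.two_ne_zero_of_odd_card hodd
  obtain ⟨w, hw, hwT⟩ := exists_inverting hodd hx
  have hle : torus x ≤ Subgroup.normalizer (torus x : Set SL) := Subgroup.le_normalizer
  let f : torus x ⊕ torus x → Subgroup.normalizer (torus x : Set SL) :=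
    Sum.elim (fun a => ⟨a.1, hle a.2⟩) (fun a => ⟨a.1 * w, mul_mem (hle a.2) hw⟩)
  have hf : Function.Bijective f := by
    constructor
    · rintro (a | a) (b | b) h <;> have h' := congrArg Subtype.val h <;> simp only [f, Sum.elim_inl, Sum.elim_inr] at h'
      · rw [Subtype.ext h']
      · exact absurd ((Subgroup.mul_mem_cancel_left _ b.2).mp (h' ▸ a.2)) hwT
      · exact absurd ((Subgroup.mul_mem_cancel_left _ a.2).mp (h' ▸ b.2)) hwT
      · rw [Subtype.ext (mul_right_cancel h')]
    · rintro ⟨g, hg⟩
      by_cases hgT : g ∈ torus x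
      · exact ⟨Sum.inl ⟨g, hgT⟩, rfl⟩
      · have h1 := conj_eq_inv_of_mem_normalizer h2 hx hg hgT (self_mem_torus x)
        have h3 := conj_eq_inv_of_mem_normalizer h2 hx hw hwT (self_mem_torus x)
        have hm : g * w⁻¹ ∈ torus x := by
          rw [mem_torus]
          have h4 : w⁻¹ * x * w = x⁻¹ := by
            have := congrArg (fun z => w⁻¹ * z⁻¹ * w) h3
            simpa [mul_inv_rev, mul_assoc] using this.symm
          calc g * w⁻¹ * x = g * (w⁻¹ * x * w) * g⁻¹ * (g * w⁻¹) := by group
            _ = g * x⁻¹ * g⁻¹ * (g * w⁻¹) := by rw [h4]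
            _ = _ := by
              rw [show g * x⁻¹ * g⁻¹ = (g * x * g⁻¹)⁻¹ by group, h1, inv_inv]
        exact ⟨Sum.inr ⟨_, hm⟩, Subtype.ext (inv_mul_cancel_right g w)⟩
  rw [← Nat.card_eq_of_bijective f hf, Nat.card_sum, two_mul]

theorem card_conjClasses_normalizer_torus {x : SL} (hodd : Odd (Fintype.card F)) (hx : Regular x) :
    2 * Nat.card (ConjClasses (Subgroup.normalizer (torus x : Set SL))) = Nat.card (torus x) + 6 := by
  have h2 := Cfsg.Agent.Lib.Linear.two_ne_zero_of_odd_card hodd
  let N := Subgroup.normalizer (torus x : Set SL)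
  let T : Subgroup N := (torus x).subgroupOf N
  have hcard : Nat.card T = Nat.card (torus x) :=
    Nat.card_congr (Subgroup.subgroupOfEquivOfLe Subgroup.le_normalizer).toEquiv
  rw [← hcard]
  refine card_conjClasses_inverted T ?_ ?_ ?_ ?_
  · rw [hcard]; exact card_normalizer_torus hodd hx
  · exact fun a ha b hb => Subtype.ext (torus_comm hx ha hb)
  · exact fun w hw a ha => Subtype.ext (conj_eq_inv_of_mem_normalizer h2 hx w.2 hw ha)
  · have hle : torus x ≤ N := Subgroup.le_normalizer
    let m1 : T := ⟨⟨negOne, hle (negOne_mem_torus x)⟩, negOne_mem_torus x⟩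
    rw [Nat.card_eq_two_iff]
    refine ⟨⟨1, one_mul 1⟩, ⟨m1, Subtype.ext (Subtype.ext negOne_sq)⟩, fun h => negOne_ne_one h2 ?_, ?_⟩
    · exact (congrArg (fun z => (z.1.1.1 : SL)) h).symm
    · refine Set.eq_univ_of_forall fun a => ?_
      have h : (a.1.1.1 : SL) * a.1.1.1 = 1 := congrArg (fun z : T => (z.1.1 : SL)) a.2
      rcases sq_eq_one h2 h with h | h
      · exact Or.inl (Subtype.ext (Subtype.ext (Subtype.ext h)))
      · exact Or.inr (Subtype.ext (Subtype.ext (Subtype.ext h)))

/-- No eigenvector exactly when the discriminant is a non-square. -/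
theorem noEigen_iff (h2 : (2 : F) ≠ 0) (g : SL) :
    (∀ (c : F) (v : Fin 2 → F), v ≠ 0 → (g : M2).mulVec v ≠ c • v) ↔
      ¬ IsSquare (slTr g ^ 2 - 4) := by
  have hd := det_eq g
  constructor
  · rintro h ⟨r, hr⟩
    let c := (slTr g + r) / 2
    have hdet : ((g : M2) - c • (1 : M2)).det = 0 := by
      simp [Matrix.det_fin_two, c, slTr] at hr ⊢
      field_simp
      linear_combination (4 : F) * hd - hr
    obtain ⟨v, hv, hv'⟩ := Matrix.exists_mulVec_eq_zero_iff.mpr hdet
    rw [Matrix.sub_mulVec, Matrix.smul_mulVec, Matrix.one_mulVec, sub_eq_zero] at hv'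
    exact h c v hv hv'
  · intro h c v hv hgv
    apply h
    have hdet : ((g : M2) - c • (1 : M2)).det = 0 := Matrix.exists_mulVec_eq_zero_iff.mp
      ⟨v, hv, by rw [Matrix.sub_mulVec, Matrix.smul_mulVec, Matrix.one_mulVec, hgv, sub_self]⟩
    simp [Matrix.det_fin_two] at hdet
    refine ⟨2 * c - slTr g, ?_⟩
    simp only [slTr]
    linear_combination 4 * hd - 4 * hdet

theorem card_conic_nonsquare {ε : F} (hε : ¬ IsSquare ε) (h2 : (2 : F) ≠ 0) :
    Nat.card {p : F × F // p.1 ^ 2 - ε * p.2 ^ 2 = 1} = Fintype.card F + 1 := by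
  classical
  have hne : ∀ s : F, 1 - ε * s ^ 2 ≠ 0 := by
    intro s h
    by_cases hs : s = 0
    · simp [hs] at h
    · exact hε ⟨s⁻¹, by field_simp; linear_combination -h⟩
  let f : Option F → {p : F × F // p.1 ^ 2 - ε * p.2 ^ 2 = 1} := fun o => match o with
    | none => ⟨(-1, 0), by ring⟩
    | some s => ⟨((1 + ε * s ^ 2) / (1 - ε * s ^ 2), 2 * s / (1 - ε * s ^ 2)), by
        have := hne s; field_simp; ring⟩
  have hf : Function.Bijective f := by
    constructor
    · rintro (_ | s) (_ | t) h
      · rfl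
      · exfalso
        have h1 := congrArg (fun z : {p : F × F // p.1 ^ 2 - ε * p.2 ^ 2 = 1} => z.1.1) h
        simp only [f] at h1
        have := hne t
        field_simp at h1
        exact h2 (by linear_combination -h1)
      · exfalso
        have h1 := congrArg (fun z : {p : F × F // p.1 ^ 2 - ε * p.2 ^ 2 = 1} => z.1.1) h
        simp only [f] at h1
        have := hne s
        field_simp at h1
        exact h2 (by linear_combination h1)
      · have h1 := congrArg (fun z : {p : F × F // p.1 ^ 2 - ε * p.2 ^ 2 = 1} => z.1.2 / (z.1.1 + 1)) h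
        simp only [f] at h1
        have key : ∀ u : F, (2 * u / (1 - ε * u ^ 2)) / ((1 + ε * u ^ 2) / (1 - ε * u ^ 2) + 1) = u := by
          intro u
          have := hne u
          rw [div_add_one this, show 1 + ε * u ^ 2 + (1 - ε * u ^ 2) = 2 by ring,
            div_div_div_cancel_right₀ this, mul_div_cancel_left₀ _ h2]
        rw [key, key] at h1
        rw [h1]
    · rintro ⟨⟨u, v⟩, h⟩
      simp only at h
      by_cases hu : u = -1
      · refine ⟨none, ?_⟩
        have hv : v = 0 := by
          by_contra hv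
          exact hε ⟨0, by
            have : ε * v ^ 2 = 0 := by rw [hu] at h; linear_combination -h
            simpa [hv] using this⟩
        simp [f, hu, hv]
      · have hu1 : u + 1 ≠ 0 := fun h' => hu (by linear_combination h')
        refine ⟨some (v / (u + 1)), ?_⟩
        have e : 1 - ε * (v / (u + 1)) ^ 2 = 2 / (u + 1) := by
          field_simp; linear_combination h
        have e' : 1 + ε * (v / (u + 1)) ^ 2 = 2 * u / (u + 1) := by
          field_simp; linear_combination -h
        simp only [f, e, e']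
        refine Subtype.ext (Prod.ext ?_ ?_) <;> simp <;> field_simp
  rw [← Nat.card_eq_of_bijective f hf, Nat.card_eq_fintype_card, Fintype.card_option]

theorem card_torus_nonsplit {x : SL} (hodd : Odd (Fintype.card F))
    (hx : ¬ IsSquare (slTr x ^ 2 - 4)) :
    Nat.card (torus x) = Fintype.card F + 1 := by
  have h2 := Cfsg.Agent.Lib.Linear.two_ne_zero_of_odd_card hodd
  have hreg : Regular x := fun h => hx ⟨0, by rw [h]; ring⟩
  set ε := (slTr x ^ 2 - 4) / 4 with hε_def
  have h4 : (4 : F) ≠ 0 := by rw [show (4 : F) = 2 * 2 by norm_num]; exact mul_ne_zero h2 h2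
  have hε : ¬ IsSquare ε := by
    rintro ⟨r, hr⟩
    apply hx
    refine ⟨2 * r, ?_⟩
    rw [hε_def, div_eq_iff h4] at hr
    linear_combination hr
  let y : SL := mk2 (slTr x / 2) ε 1 (slTr x / 2) (by rw [hε_def]; field_simp; ring)
  obtain ⟨g, hg⟩ := exists_conj (b := y) (Nat.odd_iff.mp hodd) h2 hreg (by simp [slTr, y, add_halves]; field_simp; ring)
  rw [← card_torus_conj g x, hg, ← card_conic_nonsquare hε h2]
  have hy : NonScalar y := Or.inr (Or.inl (by simp [y]))
  refine Nat.card_congr
    { toFun := fun a => ⟨(a.1.1 0 0, a.1.1 1 0), by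
        obtain ⟨k, k1, k2, k3⟩ := commute_param hy (mem_torus.mp a.2)
        simp [y] at k1 k2 k3
        have hd := det_eq a.1
        rw [← sub_eq_zero.mp k3, k1, ← k2] at hd
        simp only
        linear_combination hd⟩
      invFun := fun p => ⟨mk2 p.1.1 (ε * p.1.2) p.1.2 p.1.1 (by linear_combination p.2), by
        rw [mem_torus]
        apply slExt <;> simp [mul_apply', y] <;> ring⟩
      left_inv := fun a => by
        obtain ⟨k, k1, k2, k3⟩ := commute_param hy (mem_torus.mp a.2)
        simp [y] at k1 k2 k3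
        refine Subtype.ext (slExt rfl ?_ rfl (sub_eq_zero.mp k3))
        simp [k1, k2, mul_comm]
      right_inv := fun p => Subtype.ext rfl }

theorem torus_diag_iff {d : SL} (h01 : d.1 0 1 = 0) (h10 : d.1 1 0 = 0) (ha : d.1 0 0 ≠ d.1 1 1)
    (g : SL) : g ∈ torus d ↔ g.1 0 1 = 0 ∧ g.1 1 0 = 0 := by
  rw [mem_torus]
  constructor
  · intro h
    obtain ⟨k, k1, k2, -⟩ := commute_param (Or.inr (Or.inr ha)) h
    exact ⟨by rw [k1, h01, mul_zero], by rw [k2, h10, mul_zero]⟩
  · rintro ⟨g1, g2⟩
    apply slExt <;> simp [mul_apply', h01, h10, g1, g2, mul_comm]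

theorem card_torus_diag {d : SL} (h01 : d.1 0 1 = 0) (h10 : d.1 1 0 = 0) (ha : d.1 0 0 ≠ d.1 1 1) :
    Nat.card (torus d) = Fintype.card F - 1 := by
  classical
  rw [← Fintype.card_units, ← Nat.card_eq_fintype_card]
  refine Nat.card_congr
    { toFun := fun a => Units.mk0 (a.1.1 0 0) (fun h => by
        have := det_eq a.1
        rw [((torus_diag_iff h01 h10 ha a.1).mp a.2).1, h] at this
        simp at this)
      invFun := fun u => ⟨mk2 (u : F) 0 0 ((u⁻¹ : Fˣ) : F) (by simp),
        (torus_diag_iff h01 h10 ha _).mpr ⟨by simp, by simp⟩⟩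
      left_inv := fun a => by
        obtain ⟨g1, g2⟩ := (torus_diag_iff h01 h10 ha a.1).mp a.2
        have := det_eq a.1
        rw [g1] at this
        refine Subtype.ext (slExt rfl (by simp [g1]) (by simp [g2]) ?_)
        simp only [mk2_11, Units.val_inv_eq_inv_val, Units.val_mk0]
        refine (eq_inv_of_mul_eq_one_left ?_).symm
        linear_combination this
      right_inv := fun u => Units.ext rfl }

theorem card_torus_split {x : SL} (hodd : Odd (Fintype.card F)) (hreg : Regular x)
    (hx : IsSquare (slTr x ^ 2 - 4)) : Nat.card (torus x) = Fintype.card F - 1 := by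
  have h2 := Cfsg.Agent.Lib.Linear.two_ne_zero_of_odd_card hodd
  obtain ⟨r, hr⟩ := hx
  have hr0 : r ≠ 0 := by
    rintro rfl
    exact hreg (by linear_combination hr)
  let d : SL := mk2 ((slTr x + r) / 2) 0 0 ((slTr x - r) / 2) (by
    field_simp; linear_combination hr)
  obtain ⟨g, hg⟩ := exists_conj (b := d) (Nat.odd_iff.mp hodd) h2 hreg (by
    simp [slTr, d]; field_simp; ring)
  rw [← card_torus_conj g x, hg]
  refine card_torus_diag rfl rfl ?_
  simp [d]
  intro h
  field_simp at h
  exact hr0 (mul_left_cancel₀ h2 (by linear_combination h))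

theorem isCyclic_torus {x : SL} (hodd : Odd (Fintype.card F)) (hreg : Regular x) :
    IsCyclic (torus x) := by
  obtain ⟨p, hp⟩ := CharP.exists F
  have hpp : Fact p.Prime := ⟨CharP.char_is_prime F p⟩
  obtain ⟨k, -, hk⟩ := FiniteField.card F p
  refine Cfsg.Agent.Lib.Linear.isCyclic_of_comm_of_coprime p _
    (fun a ha b hb => torus_comm hreg ha hb) ?_
  have hcop : ∀ m, (m = Fintype.card F + 1 ∨ m = Fintype.card F - 1) → m.Coprime p := by
    intro m hm
    rw [Nat.coprime_comm, hpp.out.coprime_iff_not_dvd]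
    intro hd
    have hq : p ∣ Fintype.card F := hk ▸ dvd_pow_self p k.ne_zero
    rcases hm with rfl | rfl
    · exact hpp.out.one_lt.ne' (Nat.dvd_one.mp ((Nat.dvd_add_right hq).mp hd))
    · have h1 : 1 ≤ Fintype.card F := Fintype.card_pos
      have := Nat.dvd_sub hq hd
      rw [Nat.sub_sub_self h1] at this
      exact hpp.out.one_lt.ne' (Nat.dvd_one.mp this)
  by_cases hsq : IsSquare (slTr x ^ 2 - 4)
  · exact hcop _ (Or.inr (card_torus_split hodd hreg hsq))
  · exact hcop _ (Or.inl (card_torus_nonsplit hodd hsq))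

theorem exists_nonsplit (hodd : Odd (Fintype.card F)) :
    ∃ (ε : F) (x : SL), ¬ IsSquare ε ∧ ¬ IsSquare (slTr x ^ 2 - 4) ∧
      ∀ g : SL, g ∈ torus x ↔ g.1 0 0 = g.1 1 1 ∧ g.1 0 1 = ε * g.1 1 0 := by
  have h2 := Cfsg.Agent.Lib.Linear.two_ne_zero_of_odd_card hodd
  have hchar : ringChar F ≠ 2 := fun h => h2 (by
    have := CharP.cast_eq_zero_iff F (ringChar F) 2 |>.mpr (by rw [h])
    exact_mod_cast this)
  obtain ⟨ε, hε⟩ := FiniteField.exists_nonsquare hchar
  have hne : 1 - ε ≠ 0 := fun h => hε ⟨1, by linear_combination -h⟩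
  have hε0 : ε ≠ 0 := fun h => hε ⟨0, by simp [h]⟩
  let x : SL := mk2 ((1 + ε) / (1 - ε)) (ε * (2 / (1 - ε))) (2 / (1 - ε)) ((1 + ε) / (1 - ε))
    (by field_simp; ring)
  refine ⟨ε, x, hε, ?_, fun g => ?_⟩
  · rintro ⟨r, hr⟩
    simp [slTr, x] at hr
    apply hε
    refine ⟨r * (1 - ε) / 4, ?_⟩
    have h4 : (4 : F) ≠ 0 := by rw [show (4 : F) = 2 * 2 by norm_num]; exact mul_ne_zero h2 h2
    field_simp at hr ⊢
    linear_combination hr
  · rw [mem_torus]
    constructor
    · intro h
      obtain ⟨k, k1, k2, k3⟩ := commute_param (Or.inr (Or.inl (by simp [x, h2, hne]))) h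
      simp [x] at k1 k2 k3
      exact ⟨sub_eq_zero.mp k3, by rw [k1, k2]; ring⟩
    · rintro ⟨g1, g2⟩
      apply slExt <;> simp [mul_apply', x, g1, g2] <;> ring

end Tori

end Cfsg.Agent.Lib.SL2Tori
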