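import Mathlib
import Cfsg.Agent.Lib.PSLTwo.Sylow
import Cfsg.Agent.Lib.Linear.SL2

/-!
Products of two conjugacy classes of SL₂(q) and PSL₂(q), read off from traces.
-/

set_option autoImplicit false
set_option linter.unusedSectionVars false

namespace Cfsg.Agent.Lib.SL2Tori.Products

open Cfsg.Agent.Lib.PSLTwo.Sylow

variable {F : Type*} [Field F]

local notation "SL" => Matrix.SpecialLinearGroup (Fin 2) F
local notation "PSL" => Matrix.ProjectiveSpecialLinearGroup (Fin 2) F

/-- The projection to PSL₂. -/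
def proj : Matrix.SpecialLinearGroup (Fin 2) F →* Matrix.ProjectiveSpecialLinearGroup (Fin 2) F :=
  QuotientGroup.mk' (Subgroup.center _)

theorem proj_surjective : Function.Surjective (proj (F := F)) :=
  QuotientGroup.mk'_surjective _

theorem negOne_mem_center : (negOne : SL) ∈ Subgroup.center SL :=
  Subgroup.mem_center_iff.mpr fun g => (negOne_central g).symm

theorem mem_center_cases {z : SL} (hz : z ∈ Subgroup.center SL) : z = 1 ∨ z = negOne := by
  refine scalar_cases fun hns => ?_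
  obtain ⟨r, -, hr⟩ := Matrix.SpecialLinearGroup.mem_center_iff.mp hz
  have e : ∀ i j, z.1 i j = (Matrix.scalar (Fin 2) r) i j := fun i j => by rw [hr]
  rcases hns with h | h | h
  · exact h (by rw [e]; simp)
  · exact h (by rw [e]; simp)
  · exact h (by rw [e, e]; simp)

theorem proj_eq_one_iff {g : SL} : proj g = 1 ↔ g = 1 ∨ g = negOne := by
  constructor
  · exact fun h => mem_center_cases ((QuotientGroup.eq_one_iff g).mp h)
  · rintro (rfl | rfl)
    · exact map_one _
    · exact (QuotientGroup.eq_one_iff _).mpr negOne_mem_center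

theorem proj_eq_iff {g h : SL} : proj g = proj h ↔ h = g ∨ h = g * negOne := by
  rw [← inv_mul_eq_one, ← map_inv, ← map_mul, proj_eq_one_iff, inv_mul_eq_one,
    inv_mul_eq_iff_eq_mul, eq_comm (a := g)]

theorem slTr_mul_negOne (g : SL) : slTr (g * negOne) = -slTr g := by
  simp [slTr, mul_apply']; ring

theorem nonScalar_of_proj_ne_one {g : SL} (h : proj g ≠ 1) : NonScalar g := by
  by_contra hn
  exact h (proj_eq_one_iff.mpr (scalar_cases hn))

theorem slTr_eq_of_proj_conj {g h : SL} (hc : IsConj (proj g) (proj h)) :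
    slTr h = slTr g ∨ slTr h = -slTr g := by
  obtain ⟨c, hc⟩ := isConj_iff.mp hc
  obtain ⟨c, rfl⟩ := proj_surjective c
  rw [← map_inv, ← map_mul, ← map_mul, proj_eq_iff] at hc
  rcases hc with rfl | rfl
  · exact Or.inl (slTr_conj g c)
  · exact Or.inr (by rw [slTr_mul_negOne, slTr_conj])

theorem slTr_smul_conj (g a : SL) : slTr (g * a * g⁻¹) = slTr a := slTr_conj a g

/-- Every non-scalar element has a conjugate with non-zero lower left entry. -/
theorem exists_conj_ne {g : SL} (hg : NonScalar g) : ∃ c : SL, (c * g * c⁻¹).1 1 0 ≠ 0 := by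
  by_cases h10 : g.1 1 0 = 0
  · by_cases h01 : g.1 0 1 = 0
    · have hne : g.1 0 0 - g.1 1 1 ≠ 0 := by
        rcases hg with h | h | h
        · exact absurd h01 h
        · exact absurd h10 h
        · exact sub_ne_zero.mpr h
      refine ⟨mk2 1 0 1 1 (by ring), ?_⟩
      rw [show (mk2 1 0 1 1 (by ring) : SL)⁻¹ = mk2 1 0 (-1) 1 (by ring) from
        inv_eq_of_mul_eq_one_right (by apply slExt <;> simp [mul_apply'])]
      simp [mul_apply', h10, h01]
      intro h
      exact hne (by linear_combination h)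
    · refine ⟨mk2 0 1 (-1) 0 (by ring), ?_⟩
      rw [show (mk2 0 1 (-1) 0 (by ring) : SL)⁻¹ = mk2 0 (-1) 1 0 (by ring) from
        inv_eq_of_mul_eq_one_right (by apply slExt <;> simp [mul_apply'])]
      simp [mul_apply', h10, h01]
  · exact ⟨1, by simpa using h10⟩

section finite

variable [Fintype F]

/-- In characteristic two a non-scalar element is conjugate to the companion of its trace. -/
theorem conj_companion_two [CharP F 2] {a : SL} (ha : NonScalar a) :
    ∃ P : SL, a * P = P * companion (slTr a) := by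
  have d1 := det_eq a
  have hsq : ∀ x : F, ∃ r : F, x * r ^ 2 = 1 ∨ x = 0 := fun x => by
    by_cases hx : x = 0
    · exact ⟨0, Or.inr hx⟩
    · obtain ⟨r, hr⟩ := FiniteField.isSquare_of_char_two (ringChar.eq F 2) x⁻¹
      exact ⟨r, Or.inl (by rw [sq, ← hr, mul_inv_cancel₀ hx])⟩
  obtain ⟨x, y, hxy⟩ : ∃ x y : F,
      a.1 1 0 * x ^ 2 + (a.1 1 1 - a.1 0 0) * x * y - a.1 0 1 * y ^ 2 = 1 := by
    obtain ⟨r, hr⟩ := hsq (a.1 1 0)
    rcases hr with hr | h10
    · exact ⟨r, 0, by linear_combination hr⟩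
    obtain ⟨s, hs⟩ := hsq (-a.1 0 1)
    rcases hs with hs | h01
    · exact ⟨0, s, by linear_combination hs⟩
    rw [neg_eq_zero] at h01
    have hne : a.1 1 1 - a.1 0 0 ≠ 0 := by
      rcases ha with h | h | h
      · exact absurd h01 h
      · exact absurd h10 h
      · exact sub_ne_zero.mpr (Ne.symm h)
    exact ⟨(a.1 1 1 - a.1 0 0)⁻¹, 1, by rw [h10, h01, mul_inv_cancel₀ hne]; ring⟩
  refine ⟨mk2 x (a.1 0 0 * x + a.1 0 1 * y) y (a.1 1 0 * x + a.1 1 1 * y)
    (by linear_combination hxy), ?_⟩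
  apply slExt <;> simp [mul_apply', companion, slTr]
  · linear_combination (-x) * d1
  · linear_combination (-y) * d1

/-- Trace determines the class: odd characteristic, regular; even characteristic, non-scalar. -/
theorem exists_conj_of_slTr_eq {a b : SL}
    (h : (Fintype.card F % 2 = 1 ∧ (2 : F) ≠ 0 ∧ slTr a ^ 2 ≠ 4) ∨
      (CharP F 2 ∧ NonScalar a ∧ NonScalar b))
    (hab : slTr b = slTr a) : ∃ P : SL, P * a * P⁻¹ = b := by
  rcases h with ⟨hodd, h2, ht⟩ | ⟨hc, ha, hb⟩
  · exact exists_conj hodd h2 ht hab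
  · obtain ⟨P, hP⟩ := conj_companion_two ha
    obtain ⟨Q, hQ⟩ := conj_companion_two hb
    refine ⟨Q * P⁻¹, ?_⟩
    rw [hab] at hQ
    calc Q * P⁻¹ * a * (Q * P⁻¹)⁻¹ = Q * (P⁻¹ * (a * P)) * Q⁻¹ := by group
      _ = Q * companion (slTr a) * Q⁻¹ := by rw [hP, inv_mul_cancel_left]
      _ = b := by rw [← hQ, mul_inv_cancel_right]

end finite

/-- Trace equations for a factorisation `g = A · (A⁻¹g)`: a basis vector and its image under `g`. -/
theorem exists_factor {g : SL} (hg : NonScalar g) {a b t s : F}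
    (h : a ^ 2 - slTr g * a * b + b ^ 2 - t * a + s * b + 1 = 0) :
    ∃ A : SL, slTr A = t ∧ slTr (A⁻¹ * g) = s := by
  obtain ⟨c, hc⟩ := exists_conj_ne hg
  have key : ∀ g' : SL, g'.1 1 0 ≠ 0 → slTr g' = slTr g →
      ∃ A : SL, slTr A = t ∧ slTr (A⁻¹ * g') = s := by
    intro g' h10 htr
    have hd := det_eq g'
    -- coordinates with respect to the basis e₀, g' e₀
    obtain ⟨w, hw⟩ : ∃ w : F, w = s + b - a * slTr g := ⟨_, rfl⟩
    obtain ⟨u, hu⟩ : ∃ u : F, u = a + g'.1 0 0 * w := ⟨_, rfl⟩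
    obtain ⟨v, hv⟩ : ∃ v : F, g'.1 1 0 * v = b + g'.1 0 0 * (t - a) - g'.1 0 0 * u :=
      ⟨(b + g'.1 0 0 * (t - a) - g'.1 0 0 * u) / g'.1 1 0, mul_div_cancel₀ _ h10⟩
    have hdet : u * (t - u) - v * (g'.1 1 0 * w) = 1 := by
      subst hu hw
      linear_combination -h - (s + b - a * slTr g) * hv
    refine ⟨mk2 u v (g'.1 1 0 * w) (t - u) hdet, ?_, ?_⟩
    · simp [slTr]
    · rw [show (mk2 u v (g'.1 1 0 * w) (t - u) hdet : SL)⁻¹ =
        mk2 (t - u) (-v) (-(g'.1 1 0 * w)) u (by linear_combination hdet) from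
        inv_eq_of_mul_eq_one_right (by
          apply slExt <;> simp [mul_apply'] <;> first | linear_combination hdet | ring1)]
      simp only [slTr, mul_apply', mk2_00, mk2_01, mk2_10, mk2_11] at htr hw ⊢
      subst hu
      linear_combination w * hd - hv + a * htr + hw
  obtain ⟨A, hA1, hA2⟩ := key _ hc (slTr_conj g c)
  refine ⟨c⁻¹ * A * c, ?_, ?_⟩
  · rw [show c⁻¹ * A * c = c⁻¹ * A * (c⁻¹)⁻¹ by group, slTr_conj, hA1]
  · rw [show (c⁻¹ * A * c)⁻¹ * g = c⁻¹ * (A⁻¹ * (c * g * c⁻¹)) * (c⁻¹)⁻¹ by group, slTr_conj, hA2]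

/-- Two nontrivial classes in PSL₂(q), q ≥ 4, multiply to at least two classes. -/
theorem exists_two_products [Fintype F] (h4 : 4 ≤ Fintype.card F) {a b : SL}
    (ha : NonScalar a) (hb : NonScalar b) :
    ∃ u v v' : SL, ¬ IsConj (proj (u * a * u⁻¹ * (v * b * v⁻¹)))
      (proj (u * a * u⁻¹ * (v' * b * v'⁻¹))) := by
  classical
  obtain ⟨u, hu⟩ := exists_conj_ne ha
  obtain ⟨v, hv⟩ := exists_conj_ne hb
  set A := u * a * u⁻¹ with hA
  set B := v * b * v⁻¹ with hB
  let U : F → SL := fun k => mk2 1 k 0 1 (by ring)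
  let L : F := A.1 0 0 * B.1 1 0 - A.1 1 1 * B.1 1 0 + A.1 1 0 * (B.1 1 1 - B.1 0 0)
  let τ : F := slTr (A * B)
  have hU : ∀ k, slTr (A * (U k * v * b * (U k * v)⁻¹)) =
      τ + L * k - A.1 1 0 * B.1 1 0 * k ^ 2 := by
    intro k
    rw [show U k * v * b * (U k * v)⁻¹ = U k * B * (U k)⁻¹ by rw [hB]; group,
      show (U k)⁻¹ = mk2 1 (-k) 0 1 (by ring) from
        inv_eq_of_mul_eq_one_right (by apply slExt <;> simp [U, mul_apply'])]
    simp [τ, L, U, slTr, mul_apply']
    ring
  have hne : A.1 1 0 * B.1 1 0 ≠ 0 := mul_ne_zero hu hv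
  -- each value is taken at most twice
  have htwo : ∀ c : F, (Finset.univ.filter fun k : F =>
      τ + L * k - A.1 1 0 * B.1 1 0 * k ^ 2 = c).card ≤ 2 := by
    intro c
    let f : Polynomial F := Polynomial.C (-(A.1 1 0 * B.1 1 0)) * Polynomial.X ^ 2 +
      Polynomial.C L * Polynomial.X + Polynomial.C (τ - c)
    have hdeg : f.natDegree = 2 := Polynomial.natDegree_quadratic (neg_ne_zero.mpr hne)
    have hf0 : f ≠ 0 := fun h => by rw [h] at hdeg; simp at hdeg
    refine le_trans (Finset.card_le_card (t := f.roots.toFinset) ?_)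
      (le_trans (Multiset.toFinset_card_le _) (hdeg ▸ Polynomial.card_roots' f))
    intro k hk
    rw [Finset.mem_filter] at hk
    rw [Multiset.mem_toFinset, Polynomial.mem_roots hf0]
    simp [f]
    linear_combination hk.2
  obtain ⟨k, hk⟩ : ∃ k : F, τ + L * k - A.1 1 0 * B.1 1 0 * k ^ 2 ≠ τ ∧
      τ + L * k - A.1 1 0 * B.1 1 0 * k ^ 2 ≠ -τ := by
    by_contra hall
    push Not at hall
    have hsub : (Finset.univ : Finset F) ⊆
        (Finset.univ.filter fun k => τ + L * k - A.1 1 0 * B.1 1 0 * k ^ 2 = τ) ∪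
        (Finset.univ.filter fun k => τ + L * k - A.1 1 0 * B.1 1 0 * k ^ 2 = -τ) := by
      intro k _
      simp only [Finset.mem_union, Finset.mem_filter, Finset.mem_univ, true_and]
      by_cases hh : τ + L * k - A.1 1 0 * B.1 1 0 * k ^ 2 = τ
      · exact Or.inl hh
      · exact Or.inr (hall k hh)
    have h1 := Finset.card_le_card hsub
    rw [Finset.card_univ] at h1
    have h2 := Finset.card_union_le
      (Finset.univ.filter fun k => τ + L * k - A.1 1 0 * B.1 1 0 * k ^ 2 = τ)
      (Finset.univ.filter fun k => τ + L * k - A.1 1 0 * B.1 1 0 * k ^ 2 = -τ)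
    have h3 := htwo τ
    have h4' := htwo (-τ)
    by_cases hchar : (2 : F) = 0
    · have : -τ = τ := by linear_combination (-τ) * hchar
      rw [this, Finset.union_self] at hsub
      have := Finset.card_le_card hsub
      rw [Finset.card_univ] at this
      omega
    · have hodd : Fintype.card F ≠ 4 := by
        intro h
        have := Nat.cast_card_eq_zero F
        rw [h] at this
        push_cast at this
        exact hchar (mul_self_eq_zero.mp (by linear_combination this))
      omega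
  refine ⟨u, v, U k * v, fun hc => ?_⟩
  have := slTr_eq_of_proj_conj hc
  rw [← hA, hU] at this
  rcases this with h | h
  · exact hk.1 h
  · exact hk.2 h

end Cfsg.Agent.Lib.SL2Tori.Products
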